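import Cfsg.Agent.LargeExtra.W2.ThreeG.Two

/-!
# Case `9c` of S1759 (`G₂(3)`): the relation from the 3-local analysis (helper865)

* `relation`: unless `C_G(x₁) ≤ C_G(z)` and `C_G(x₂) ≤ C_G(z)`, `x₁` commutes with `(x₁)^{gq}`, `(x₂)^{gq}` for some
  `q ∈ {1, i j, k l, i j k l}`, `g : z → y → z y`.
* `exists_torus₁`, `exists_torus₂`: a subgroup of order nine of `C_G(y) ∩ C_G(x)` inverted by `z`.
* `comm_mod₁`, `comm_mod₂`: `g, h ∈ C_G(x)` of odd order inverted by `z` commute modulo `⟨x⟩`.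
-/

set_option autoImplicit false

open scoped commutatorElement

namespace Cfsg.Agent.LargeExtra.W2.ThreeG.Main

open Cfsg Cfsg.Agent.LargeExtra.W2 Cfsg.Agent.LargeExtra.W2.ThreeG.Model
open Cfsg.Agent.SmallExtra438.Frame (L kap kap_of L_0 L_1 L_2 L_3 L_4 L_12 L_15 L_16)
open Cfsg.Agent.LargeExtra.W2.ThreeG.Dec
open Cfsg.Agent.LargeExtra.W2.ThreeA Cfsg.Agent.LargeExtra.W2.ThreeC Cfsg.Agent.LargeExtra.W2.ThreeD
open Cfsg.Agent.StandardComponent.CentCore

variable {G : Type*} [Group G] {Q : Subgroup G} {z i j k l x₁ x₂ y : G}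
variable (h : Case9c Q z i j k l x₁ x₂ y) (hy : y * y = 1)

include h hy in
/-- the elements of `C_G(z)` normalising `⟨z, y⟩` -/
theorem exists_q [Finite G] {c : G} (hz : c * z = z * c) (hc : c * y = y * c ∨ c * y = z * y * c) :
    ∃ q : G, (q = 1 ∨ q = i * j ∨ q = k * l ∨ q = i * j * k * l) ∧ ∃ e : G, c = q * e ∧
      (e * x₁ * e⁻¹ = x₁ ∨ e * x₁ * e⁻¹ = x₁⁻¹) ∧ (e * x₂ * e⁻¹ = x₂ ∨ e * x₂ * e⁻¹ = x₂⁻¹) := by
  obtain ⟨m, hm, rfl⟩ := exists_code h hy hz
  have h1 : mm m 288 = mm 288 m ∨ mm m 288 = mm (mm 16 288) m := by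
    rcases hc with hc | hc
    · left
      apply F_commute h hy hm (by norm_num)
      rw [F_288]; exact hc
    · right
      apply F_inj h hy (mm_lt hm (by norm_num)) (mm_lt (mm_lt (by norm_num) (by norm_num)) hm)
      rw [F_mul h hy hm (by norm_num), F_mul h hy (mm_lt (by norm_num) (by norm_num)) hm,
        F_mul h hy (by norm_num) (by norm_num), F_288, F_16]
      exact hc
  obtain ⟨q, hq, e, he, hqe⟩ := norm_v m hm h1
  have hq' : q < 32 := by
    have : ∀ q ∈ [0, 3, 12, 15], q < 32 := by decide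
    exact this q hq
  have he' : e < 576 := by
    simp only [List.mem_cons, List.not_mem_nil, or_false] at he
    rcases he with rfl | rfl | rfl | rfl
    · norm_num
    · norm_num
    · norm_num
    · exact mm_lt (by norm_num) (by norm_num)
  refine ⟨F z i j k l x₁ x₂ y q, ?_, F z i j k l x₁ x₂ y e, by rw [hqe, F_mul h hy (by omega) he'], ?_, ?_⟩
  · simp only [List.mem_cons, List.not_mem_nil, or_false] at hq
    rcases hq with rfl | rfl | rfl | rfl
    · left; exact F_0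
    · right; left; rw [F_lt (by norm_num), L_3]
    · right; right; left; rw [F_lt (by norm_num), L_12]
    · right; right; right; rw [F_lt (by norm_num), L_15]
  · have hzx := comm_z1 h
    simp only [List.mem_cons, List.not_mem_nil, or_false] at he
    rcases he with rfl | rfl | rfl | rfl
    · left; rw [F_0]; group
    · left; rw [F_16, hzx]; group
    · right; rw [F_288]; exact h.y1
    · right; rw [F_mul h hy (by norm_num) (by norm_num), F_16, F_288]
      exact (half2 h hy).zτx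
  · have hzx := comm_z2 h
    simp only [List.mem_cons, List.not_mem_nil, or_false] at he
    rcases he with rfl | rfl | rfl | rfl
    · left; rw [F_0]; group
    · left; rw [F_16, hzx]; group
    · right; rw [F_288]; exact h.y2
    · right; rw [F_mul h hy (by norm_num) (by norm_num), F_16, F_288]
      exact (half2 h hy).zτy

include h hy in
/-- **The relation.** -/
theorem relation [Finite G] {g : G} (hg1 : g * z * g⁻¹ = y) (hg2 : g * y * g⁻¹ = z * y)
    (hne : ¬ (Subgroup.centralizer {x₁} ≤ Subgroup.centralizer {z} ∧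
      Subgroup.centralizer {x₂} ≤ Subgroup.centralizer {z})) :
    ∃ q : G, (q = 1 ∨ q = i * j ∨ q = k * l ∨ q = i * j * k * l) ∧ Commute x₁ (g * q * x₁ * q⁻¹ * g⁻¹) ∧
      Commute x₁ (g * q * x₂ * q⁻¹ * g⁻¹) := by
  have hT := two h hy hg1 hg2
  rcases dichotomy hT with ⟨h1, h2⟩ | ⟨h9, -⟩
  · exfalso
    apply hne
    constructor
    · intro c hc
      rw [Subgroup.mem_centralizer_singleton_iff] at hc ⊢
      exact h1 c hc
    · intro c hc
      rw [Subgroup.mem_centralizer_singleton_iff] at hc ⊢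
      exact h2 c hc
  obtain ⟨g', hgz, hgy, hc1, hc2⟩ := nine_relation hT h9
  -- `c = g⁻¹ g'`
  have hzinv : g⁻¹ * y * g = z := by rw [← hg1]; group
  have hyinv : g⁻¹ * (z * y) * g = y := by rw [← hg2]; group
  have hzy : g⁻¹ * z * g = z * y := by
    have e1 : g⁻¹ * (z * y) * g = (g⁻¹ * z * g) * (g⁻¹ * y * g) := by group
    rw [hyinv, hzinv] at e1
    have e2 : g⁻¹ * z * g = y * z⁻¹ := by rw [eq_mul_inv_iff_mul_eq, ← e1]
    have e3 : z⁻¹ = z := by rw [inv_eq_iff_mul_eq_one]; exact h.large.z_sq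
    rw [e2, e3, comm_zy h]
  have hcz : (g⁻¹ * g') * z = z * (g⁻¹ * g') := by
    calc (g⁻¹ * g') * z = g⁻¹ * (g' * z * g'⁻¹) * g' := by group
      _ = g⁻¹ * y * g * (g⁻¹ * g') := by rw [hgz]; group
      _ = z * (g⁻¹ * g') := by rw [hzinv]
  have hcy : (g⁻¹ * g') * y = y * (g⁻¹ * g') ∨ (g⁻¹ * g') * y = z * y * (g⁻¹ * g') := by
    have e0 : (g⁻¹ * g') * y = g⁻¹ * (g' * y * g'⁻¹) * g * (g⁻¹ * g') := by group
    rcases hgy with h1 | h1
    · right; rw [e0, h1, hzy]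
    · left; rw [e0, h1, hyinv]
  obtain ⟨q, hq, e, hce, he1, he2⟩ := exists_q h hy hcz hcy
  have hg' : g' = g * q * e := by
    calc g' = g * (g⁻¹ * g') := by group
      _ = _ := by rw [hce]; group
  refine ⟨q, hq, ?_, ?_⟩
  · have e1 : g' * x₁ * g'⁻¹ = g * q * (e * x₁ * e⁻¹) * q⁻¹ * g⁻¹ := by rw [hg']; group
    have e2 : Commute x₁ (g * q * (e * x₁ * e⁻¹) * q⁻¹ * g⁻¹) := by rw [← e1]; exact hc1
    rcases he1 with h3 | h3
    · rw [h3] at e2; exact e2
    · rw [h3] at e2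
      have e3 : g * q * x₁⁻¹ * q⁻¹ * g⁻¹ = (g * q * x₁ * q⁻¹ * g⁻¹)⁻¹ := by group
      rw [e3] at e2
      exact Commute.inv_right_iff.1 e2
  · have e1 : g' * x₂ * g'⁻¹ = g * q * (e * x₂ * e⁻¹) * q⁻¹ * g⁻¹ := by rw [hg']; group
    have e2 : Commute x₁ (g * q * (e * x₂ * e⁻¹) * q⁻¹ * g⁻¹) := by rw [← e1]; exact hc2
    rcases he2 with h3 | h3
    · rw [h3] at e2; exact e2
    · rw [h3] at e2
      have e3 : g * q * x₂⁻¹ * q⁻¹ * g⁻¹ = (g * q * x₂ * q⁻¹ * g⁻¹)⁻¹ := by group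
      rw [e3] at e2
      exact Commute.inv_right_iff.1 e2

/-- an element of odd order in `C_G(x)` inverted by `z` lies in the odd core -/
theorem mem_core_of_odd [Finite G] {z τ x y : G} {Q : Subgroup G} (h : Half z τ x y Q) {g : G}
    (hg : g * x = x * g) (hz : z * g * z⁻¹ = g⁻¹) (hodd : Odd (orderOf g)) : g ∈ centralizerPPrimeCore 2 x := by
  have h1 := h.comm_mem_core hg
  rw [hz] at h1
  -- `g⁻² ∈ K`, `g` is a power of `g⁻²`
  obtain ⟨n, hn⟩ := hodd
  have h2 : g = (g⁻¹ * g⁻¹) ^ n := by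
    have h3 : g ^ (2 * n + 1) = 1 := by rw [← hn, pow_orderOf_eq_one]
    have h4 : (g⁻¹ * g⁻¹) ^ n = (g ^ (2 * n))⁻¹ := by
      rw [← mul_inv_rev, ← pow_two, inv_pow, ← pow_mul]
    rw [h4, eq_inv_iff_mul_eq_one, ← pow_succ', h3]
  rw [h2]
  exact Subgroup.pow_mem _ h1 _

/-- elements of odd order of `C_G(x)` inverted by `z` commute modulo `⟨x⟩` -/
theorem comm_mod [Finite G] {z τ x y : G} {Q : Subgroup G} (h : Half z τ x y Q) {g g' : G}
    (hg : g * x = x * g) (hz : z * g * z⁻¹ = g⁻¹) (hodd : Odd (orderOf g))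
    (hg' : g' * x = x * g') (hz' : z * g' * z⁻¹ = g'⁻¹) (hodd' : Odd (orderOf g')) :
    ⁅g, g'⁆ ∈ Subgroup.zpowers x := by
  have h1 := mem_core_of_odd h hg hz hodd
  have h2 := mem_core_of_odd h hg' hz' hodd'
  obtain ⟨n, hn⟩ := h.core_comm_mod h1 h2
  have hc : Commute x (g' * g) := by
    have e1 : Commute x g := (show Commute g x from hg).symm
    have e2 : Commute x g' := (show Commute g' x from hg').symm
    exact e2.mul_right e1
  have h3 : ⁅g, g'⁆ = x ^ n := by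
    rw [commutatorElement_def]
    have e1 : g' * g * x ^ n = x ^ n * (g' * g) := (hc.zpow_left n).eq.symm
    rw [hn, e1]; group
  rw [h3]
  exact Subgroup.zpow_mem_zpowers x n

/-- a subgroup of order nine of `C_G(τ)` inverted by `z` -/
theorem torus [Finite G] {z τ x y : G} {Q : Subgroup G} (h : Half z τ x y Q)
    (h9 : Nat.card (centralizerPPrimeCore 2 x ⊓ Subgroup.centralizer {τ} : Subgroup G) = 9) :
    ∃ A : Subgroup G, Nat.card A = 9 ∧ (∀ a ∈ A, a * τ = τ * a) ∧ (∀ a ∈ A, a * x = x * a) ∧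
      (∀ a ∈ A, z * a * z⁻¹ = a⁻¹) ∧ (∀ a ∈ A, ∀ b ∈ A, a * b = b * a) := by
  refine ⟨_, h9, fun a ha => Subgroup.mem_centralizer_singleton_iff.1 ha.2, fun a ha => core_comm ha.1,
    fun a ha => h.inv_of_τ ha.1 (Subgroup.mem_centralizer_singleton_iff.1 ha.2), ?_⟩
  intro a ha b hb
  have e1 := h.inv_of_τ ha.1 (Subgroup.mem_centralizer_singleton_iff.1 ha.2)
  have e2 := h.inv_of_τ hb.1 (Subgroup.mem_centralizer_singleton_iff.1 hb.2)
  have hab := Subgroup.mul_mem _ ha hb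
  have e3 := h.inv_of_τ hab.1 (Subgroup.mem_centralizer_singleton_iff.1 hab.2)
  have e4 : z * (a * b) * z⁻¹ = (z * a * z⁻¹) * (z * b * z⁻¹) := by group
  rw [e3, e1, e2] at e4
  have e5 : (a * b)⁻¹ = (b * a)⁻¹ := by rw [e4]; group
  exact inv_injective e5

include h hy in
/-- **(O1)** for `x₁` and `x₂` -/
theorem exists_torus [Finite G] {g : G} (hg1 : g * z * g⁻¹ = y) (hg2 : g * y * g⁻¹ = z * y)
    (hne : ¬ (Subgroup.centralizer {x₁} ≤ Subgroup.centralizer {z} ∧
      Subgroup.centralizer {x₂} ≤ Subgroup.centralizer {z})) (x : G) (hx : x = x₁ ∨ x = x₂) :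
    ∃ A : Subgroup G, Nat.card A = 9 ∧ (∀ a ∈ A, a * y = y * a) ∧ (∀ a ∈ A, a * x = x * a) ∧
      (∀ a ∈ A, z * a * z⁻¹ = a⁻¹) ∧ (∀ a ∈ A, ∀ b ∈ A, a * b = b * a) := by
  have hT := two h hy hg1 hg2
  rcases dichotomy hT with ⟨h1, h2⟩ | ⟨h9, h9'⟩
  · exfalso
    apply hne
    constructor
    · intro c hc
      rw [Subgroup.mem_centralizer_singleton_iff] at hc ⊢
      exact h1 c hc
    · intro c hc
      rw [Subgroup.mem_centralizer_singleton_iff] at hc ⊢
      exact h2 c hc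
  rcases hx with rfl | rfl
  · exact torus hT.h₁ h9
  · exact torus hT.h₂ h9'

include h hy in
/-- **(O2)** for `x₁` and `x₂` -/
theorem commutator_mem [Finite G] (x : G) (hx : x = x₁ ∨ x = x₂) {g g' : G}
    (hg : g * x = x * g) (hz : z * g * z⁻¹ = g⁻¹) (hodd : Odd (orderOf g))
    (hg' : g' * x = x * g') (hz' : z * g' * z⁻¹ = g'⁻¹) (hodd' : Odd (orderOf g')) :
    ⁅g, g'⁆ ∈ Subgroup.zpowers x := by
  rcases hx with rfl | rfl
  · exact comm_mod (half2 h hy) hg hz hodd hg' hz' hodd'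
  · exact comm_mod (half1 h hy) hg hz hodd hg' hz' hodd'

end Cfsg.Agent.LargeExtra.W2.ThreeG.Main
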