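import Cfsg.Agent.LargeExtra.W2.ThreeG.Model

/-!
# Facts about the decidable model of `C_G(z)` in case `9c` (helper865)
-/

set_option autoImplicit false

namespace Cfsg.Agent.LargeExtra.W2.ThreeG.Dec

open Cfsg.Agent.LargeExtra.W2.ThreeG.Model

/-- codes of `⟨k, l⟩` -/
def S2 : List ℕ := [0, 4, 8, 12, 16, 20, 24, 28]
/-- codes of `⟨i, j⟩` -/
def S1 : List ℕ := [0, 1, 2, 3, 16, 17, 18, 19]

theorem S2_mul : ∀ a ∈ S2, ∀ b ∈ S2, mm a b ∈ S2 := by decide +kernel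
theorem S1_mul : ∀ a ∈ S1, ∀ b ∈ S1, mm a b ∈ S1 := by decide +kernel
theorem S2_lt : ∀ a ∈ S2, a < 576 := by decide +kernel
theorem S1_lt : ∀ a ∈ S1, a < 576 := by decide +kernel
theorem S2_four : ∀ a ∈ S2, mm (mm a a) (mm a a) = 0 := by decide +kernel
theorem S1_four : ∀ a ∈ S1, mm (mm a a) (mm a a) = 0 := by decide +kernel
theorem S2_uniq : ∀ a ∈ S2, mm a a = 0 → a = 0 ∨ a = 16 := by decide +kernel
theorem S1_uniq : ∀ a ∈ S1, mm a a = 0 → a = 0 ∨ a = 16 := by decide +kernel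
theorem S2_x1 : ∀ a ∈ S2, mm a 32 = mm 32 a := by decide +kernel
theorem S1_x2 : ∀ a ∈ S1, mm a 96 = mm 96 a := by decide +kernel
theorem S2_x2 : ∀ a ∈ S2, ∃ b ∈ S2, mm 96 a = mm b 96 := by decide +kernel
theorem S1_x1 : ∀ a ∈ S1, ∃ b ∈ S1, mm 32 a = mm b 32 := by decide +kernel
theorem S2_fpf : ∀ a ∈ S2, mm 96 a = mm a 96 → a = 0 ∨ a = 16 := by decide +kernel
theorem S1_fpf : ∀ a ∈ S1, mm 32 a = mm a 32 → a = 0 ∨ a = 16 := by decide +kernel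
theorem S2_ne : mm 96 4 ≠ mm 4 96 := by decide +kernel
theorem S1_ne : mm 32 1 ≠ mm 1 32 := by decide +kernel
theorem S2_sw : mm 12 288 = mm (mm 16 288) 12 := by decide +kernel
theorem S1_sw : mm 3 288 = mm (mm 16 288) 3 := by decide +kernel

theorem cent_x1 : ∀ m < 576, mm m 32 = mm 32 m →
    ∃ a < 3, ∃ b < 3, ∃ q ∈ S2, m = mm (32 * a + 96 * b) q := by decide +kernel
theorem cent_x2 : ∀ m < 576, mm m 96 = mm 96 m →
    ∃ a < 3, ∃ b < 3, ∃ q ∈ S1, m = mm (32 * a + 96 * b) q := by decide +kernel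

theorem cent_v' : ∀ v ∈ [128, 224, 160, 256], ∀ m < 576, mm m v = mm v m →
    ∃ c < 3, ∃ d < 3, m = 32 * c + 96 * d ∨ m = mm (32 * c + 96 * d) 16 := by decide +kernel

theorem cent_v {a b : ℕ} (ha : a < 3) (hb : b < 3) (ha' : a ≠ 0) (hb' : b ≠ 0) {m : ℕ} (hm : m < 576)
    (h : mm m (32 * a + 96 * b) = mm (32 * a + 96 * b) m) :
    ∃ c < 3, ∃ d < 3, m = 32 * c + 96 * d ∨ m = mm (32 * c + 96 * d) 16 := by
  refine cent_v' (32 * a + 96 * b) ?_ m hm h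
  have h1 : a = 1 ∨ a = 2 := by omega
  have h2 : b = 1 ∨ b = 2 := by omega
  rcases h1 with rfl | rfl <;> rcases h2 with rfl | rfl <;> simp

theorem norm_p : ∀ m < 576, (∃ a < 3, ∃ b < 3, mm m 32 = mm (32 * a + 96 * b) m) →
    (∃ a < 3, ∃ b < 3, mm m 96 = mm (32 * a + 96 * b) m) →
    ∃ a < 3, ∃ b < 3, m = 32 * a + 96 * b ∨ m = mm (32 * a + 96 * b) 16 ∨ m = mm (32 * a + 96 * b) 288 ∨
      m = mm (32 * a + 96 * b) (mm 16 288) := by decide +kernel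

theorem syl : ∀ m < 576, mm (mm m (mm m m)) (mm (mm m (mm m m)) (mm m (mm m m))) = 0 →
    ∃ c < 32, ∃ a < 3, ∃ b < 3, mm c m = mm (32 * a + 96 * b) c := by decide +kernel

theorem cent_y : ∀ m < 576, mm m 288 = mm 288 m → mm m m = 0 := by decide +kernel

theorem norm_v : ∀ m < 576, (mm m 288 = mm 288 m ∨ mm m 288 = mm (mm 16 288) m) →
    ∃ q ∈ [0, 3, 12, 15], ∃ e ∈ [0, 16, 288, mm 16 288], m = mm q e := by decide +kernel

end Cfsg.Agent.LargeExtra.W2.ThreeG.Dec
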