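import Cfsg.Agent.SmallExtra438.Frame

/-!
# A decidable model of `C_G(z)` in the case `9c` of S1759, `y² = 1` (helper865, after helper438)

Elements of `C_G(z)` (order 576) are coded by `m < 576`, `m = q + 32 k`, `q < 32` an element of `Q`
(bits `0..3` = `i, j, k, l`, bit `4` = `z`), `k = a + 3 b + 9 e` the element `x₁ ^ a x₂ ^ b y ^ e`; `mm` is the
multiplication.
-/

set_option autoImplicit false

namespace Cfsg.Agent.LargeExtra.W2.ThreeG.Model

open Cfsg.Agent.LargeExtra.Model Cfsg.Agent.LargeExtra.Pres Cfsg.Agent.LargeExtra.Models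
open Cfsg.Agent.LargeExtra.W2 Cfsg.Agent.SmallExtra438.Model Cfsg.Agent.SmallExtra438.Frame

def Ty : ℕ := 582580717714439745947200

def TC : ℕ := 9842874765088941116655327286299190451675651752524254327859740305809752799276404406471038253877699478705413197752756131374785023098163816156693533134675726127589898291462798222430359328098446847336859130357489470203220116770885338146241602787151147057044344231771974776855206430816309741629276059178147447767667953391787390394260046623056087767958677742958324732760118607926039307078094477264358940904517035317209239057476137894643744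

/-- the action of `x₁ ^ a x₂ ^ b y ^ e` on `Q` -/
def act (k x : ℕ) : ℕ := ((TC >>> (80 * k + 5 * (x % 16))) % 32) ^^^ (x &&& 16)

/-- multiplication of the `x₁ ^ a x₂ ^ b y ^ e` -/
def km (k k' : ℕ) : ℕ :=
  if k < 9 then (k % 3 + k' % 3) % 3 + 3 * ((k / 3 % 3 + k' / 3 % 3) % 3) + 9 * (k' / 9)
  else (k % 3 + 2 * (k' % 3)) % 3 + 3 * ((k / 3 % 3 + 2 * (k' / 3 % 3)) % 3) + 9 * ((1 + k' / 9) % 2)

/-- multiplication of the model -/
def mm (m m' : ℕ) : ℕ := qm (m % 32) (act (m / 32) (m' % 32)) + 32 * km (m / 32) (m' / 32)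

theorem act_lt : ∀ k < 18, ∀ x < 32, act k x < 32 := by decide +kernel

theorem act_eq : ∀ k < 18, ∀ x < 32,
    act k x = (app T1)^[k % 3] ((app T2)^[k / 3 % 3] ((app Ty)^[k / 9] x)) := by decide +kernel

theorem app_lt' : ∀ x < 32, app Ty x < 32 := by decide +kernel

/-- images of the generators -/
def Iy : ℕ → XG rP4 4 := fun n => toX ([18, 17, 24, 20].getD n 0)

theorem goody : Good rP4 4 Iy := by decide +kernel

theorem lifty : ∀ x < 32, lift goody.rels tri_P4 (toX x) = toX (app Ty x) := by decide +kernel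

theorem km_lt : ∀ n < 18, ∀ n' < 18, km n n' < 18 := by decide +kernel

section

variable {G : Type*} [Group G] {Q : Subgroup G} {z i j k l x₁ x₂ y : G}

/-- the element of `C_G(z)` with code `m` -/
def F (z i j k l x₁ x₂ y : G) (m : ℕ) : G := L z i j k l (m % 32) * kap x₁ x₂ y (m / 32)

theorem L_17 (h : Plus Q z i j k l) : L z i j k l 17 = i * z := by
  rw [show (17 : ℕ) = qm 1 16 by decide, L_mul h (by norm_num) (by norm_num), L_1, L_16]

theorem L_18 (h : Plus Q z i j k l) : L z i j k l 18 = j * z := by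
  rw [show (18 : ℕ) = qm 2 16 by decide, L_mul h (by norm_num) (by norm_num), L_2, L_16]

theorem L_20 (h : Plus Q z i j k l) : L z i j k l 20 = k * z := by
  rw [show (20 : ℕ) = qm 4 16 by decide, L_mul h (by norm_num) (by norm_num), L_4, L_16]

theorem L_24 (h : Plus Q z i j k l) : L z i j k l 24 = l * z := by
  rw [show (24 : ℕ) = qm 8 16 by decide, L_mul h (by norm_num) (by norm_num), L_8, L_16]

variable (h : Case9c Q z i j k l x₁ x₂ y)
include h

theorem conj1 {x : ℕ} (hx : x < 32) : x₁ * L z i j k l x = L z i j k l (app T1 x) * x₁ := by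
  refine conj_L h.toPlus h.x₁_act.z good1 lift1 (fun n => ?_) hx
  fin_cases n
  · change x₁ * i * x₁⁻¹ = L z i j k l 2
    rw [L_2]; exact h.x₁_act.i
  · change x₁ * j * x₁⁻¹ = L z i j k l 3
    rw [L_3]; exact h.x₁_act.j
  · change x₁ * k * x₁⁻¹ = L z i j k l 4
    rw [L_4]; exact h.x₁_act.k
  · change x₁ * l * x₁⁻¹ = L z i j k l 8
    rw [L_8]; exact h.x₁_act.l

theorem conj2 {x : ℕ} (hx : x < 32) : x₂ * L z i j k l x = L z i j k l (app T2 x) * x₂ := by
  refine conj_L h.toPlus h.x₂_act.z good2 lift2 (fun n => ?_) hx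
  fin_cases n
  · change x₂ * i * x₂⁻¹ = L z i j k l 1
    rw [L_1]; exact h.x₂_act.i
  · change x₂ * j * x₂⁻¹ = L z i j k l 2
    rw [L_2]; exact h.x₂_act.j
  · change x₂ * k * x₂⁻¹ = L z i j k l 8
    rw [L_8]; exact h.x₂_act.k
  · change x₂ * l * x₂⁻¹ = L z i j k l 12
    rw [L_12]; exact h.x₂_act.l

theorem conjy {x : ℕ} (hx : x < 32) : y * L z i j k l x = L z i j k l (app Ty x) * y := by
  refine conj_L h.toPlus h.y_act.z goody lifty (fun n => ?_) hx
  fin_cases n
  · change y * i * y⁻¹ = L z i j k l 18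
    rw [L_18 h.toPlus]; exact h.y_act.i
  · change y * j * y⁻¹ = L z i j k l 17
    rw [L_17 h.toPlus]; exact h.y_act.j
  · change y * k * y⁻¹ = L z i j k l 24
    rw [L_24 h.toPlus]; exact h.y_act.k
  · change y * l * y⁻¹ = L z i j k l 20
    rw [L_20 h.toPlus]; exact h.y_act.l

theorem kap_L {n x : ℕ} (hn : n < 18) (hx : x < 32) :
    kap x₁ x₂ y n * L z i j k l x = L z i j k l (act n x) * kap x₁ x₂ y n := by
  obtain ⟨hs1, hs2⟩ := conj_pow_aux app_lt' (fun x hx => conjy h hx) (n / 9) x hx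
  obtain ⟨h21, h22⟩ := conj_pow_aux (fun x hx => (app_lt x hx).2.1) (fun x hx => conj2 h hx) (n / 3 % 3) _ hs1
  obtain ⟨h11, h12⟩ := conj_pow_aux (fun x hx => (app_lt x hx).1) (fun x hx => conj1 h hx) (n % 3) _ h21
  rw [act_eq n hn x hx, kap, mul_assoc, hs2, ← mul_assoc, mul_assoc (x₁ ^ (n % 3)), h22,
    ← mul_assoc (x₁ ^ (n % 3)), h12]
  group

theorem y_pow1 (n : ℕ) : y * x₁ ^ n = x₁ ^ (2 * n) * y := by
  have h2 : x₁⁻¹ = x₁ ^ 2 := by
    rw [inv_eq_iff_mul_eq_one, ← pow_succ', h.x₁3]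
  have h1 : y * x₁ ^ n * y⁻¹ = x₁ ^ (2 * n) := by rw [← conj_pow, h.y1, h2, ← pow_mul]
  rw [← h1]; group

theorem y_pow2 (n : ℕ) : y * x₂ ^ n = x₂ ^ (2 * n) * y := by
  have h2 : x₂⁻¹ = x₂ ^ 2 := by
    rw [inv_eq_iff_mul_eq_one, ← pow_succ', h.x₂3]
  have h1 : y * x₂ ^ n * y⁻¹ = x₂ ^ (2 * n) := by rw [← conj_pow, h.y2, h2, ← pow_mul]
  rw [← h1]; group

theorem kap_mul (hy : y * y = 1) {n n' : ℕ} (hn : n < 18) (hn' : n' < 18) :
    kap x₁ x₂ y n * kap x₁ x₂ y n' = kap x₁ x₂ y (km n n') := by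
  have hxx : ∀ a b : ℕ, x₂ ^ a * x₁ ^ b = x₁ ^ b * x₂ ^ a := fun a b =>
    ((show Commute x₁ x₂ from h.xx).pow_pow b a).eq.symm
  by_cases h9 : n < 9
  · have e0 : n / 9 = 0 := by omega
    rw [km, if_pos h9, kap_of (Nat.mod_lt _ (by norm_num)) (Nat.mod_lt _ (by norm_num)),
      pow_mod_three h.x₁3, pow_mod_three h.x₂3]
    simp only [kap]
    rw [e0, pow_zero, mul_one, pow_add, pow_add]
    calc x₁ ^ (n % 3) * x₂ ^ (n / 3 % 3) * (x₁ ^ (n' % 3) * x₂ ^ (n' / 3 % 3) * y ^ (n' / 9))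
        = x₁ ^ (n % 3) * (x₂ ^ (n / 3 % 3) * x₁ ^ (n' % 3)) * (x₂ ^ (n' / 3 % 3) * y ^ (n' / 9)) := by
          group
      _ = x₁ ^ (n % 3) * (x₁ ^ (n' % 3) * x₂ ^ (n / 3 % 3)) * (x₂ ^ (n' / 3 % 3) * y ^ (n' / 9)) := by
          rw [hxx]
      _ = _ := by simp only [mul_assoc]
  · have e1 : n / 9 = 1 := by omega
    have hss : y * y ^ (n' / 9) = y ^ ((1 + n' / 9) % 2) := by
      have : n' / 9 = 0 ∨ n' / 9 = 1 := by omega
      rcases this with h0 | h0
      · rw [h0]; simp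
      · rw [h0]; simp [hy]
    rw [km, if_neg h9, kap_of (Nat.mod_lt _ (by norm_num)) (Nat.mod_lt _ (by norm_num)),
      pow_mod_three h.x₁3, pow_mod_three h.x₂3]
    simp only [kap]
    rw [e1, pow_one, pow_add, pow_add]
    calc x₁ ^ (n % 3) * x₂ ^ (n / 3 % 3) * y * (x₁ ^ (n' % 3) * x₂ ^ (n' / 3 % 3) * y ^ (n' / 9))
        = x₁ ^ (n % 3) * x₂ ^ (n / 3 % 3) * (y * x₁ ^ (n' % 3)) * (x₂ ^ (n' / 3 % 3) * y ^ (n' / 9)) := by
          group
      _ = x₁ ^ (n % 3) * x₂ ^ (n / 3 % 3) * x₁ ^ (2 * (n' % 3)) * (y * x₂ ^ (n' / 3 % 3)) * y ^ (n' / 9) := by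
          rw [y_pow1 h]; group
      _ = x₁ ^ (n % 3) * (x₂ ^ (n / 3 % 3) * x₁ ^ (2 * (n' % 3))) * x₂ ^ (2 * (n' / 3 % 3)) *
          (y * y ^ (n' / 9)) := by
          rw [y_pow2 h]; group
      _ = x₁ ^ (n % 3) * (x₁ ^ (2 * (n' % 3)) * x₂ ^ (n / 3 % 3)) * x₂ ^ (2 * (n' / 3 % 3)) *
          y ^ ((1 + n' / 9) % 2) := by
          rw [hss, hxx]
      _ = _ := by simp only [mul_assoc]

omit h in
theorem mm_lt {m n : ℕ} (hm : m < 576) (hn : n < 576) : mm m n < 576 := by
  have h1 : act (m / 32) (n % 32) < 32 := act_lt _ (by omega) _ (by omega)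
  have h2 : qm (m % 32) (act (m / 32) (n % 32)) < 32 := qm_lt _ (by omega) _ h1
  have h3 := km_lt (m / 32) (by omega) (n / 32) (by omega)
  unfold mm
  omega

theorem F_mul (hy : y * y = 1) {m n : ℕ} (hm : m < 576) (hn : n < 576) :
    F z i j k l x₁ x₂ y (mm m n) = F z i j k l x₁ x₂ y m * F z i j k l x₁ x₂ y n := by
  have h1 : act (m / 32) (n % 32) < 32 := act_lt _ (by omega) _ (by omega)
  have h2 : qm (m % 32) (act (m / 32) (n % 32)) < 32 := qm_lt _ (by omega) _ h1
  have h7 : mm m n % 32 = qm (m % 32) (act (m / 32) (n % 32)) := by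
    unfold mm; omega
  have h8 : mm m n / 32 = km (m / 32) (n / 32) := by
    unfold mm; omega
  unfold F
  rw [h7, h8, L_mul h.toPlus (by omega) h1]
  have h9 := kap_mul h hy (n := m / 32) (n' := n / 32) (by omega) (by omega)
  have h10 := kap_L h (n := m / 32) (x := n % 32) (by omega) (by omega)
  calc _ = L z i j k l (m % 32) * L z i j k l (act (m / 32) (n % 32)) *
        kap x₁ x₂ y (km (m / 32) (n / 32)) := by
        group
    _ = L z i j k l (m % 32) * (L z i j k l (act (m / 32) (n % 32)) * kap x₁ x₂ y (m / 32)) *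
        kap x₁ x₂ y (n / 32) := by rw [← h9]; group
    _ = _ := by rw [← h10]; group

omit h in
theorem F_lt {m : ℕ} (hm : m < 32) : F z i j k l x₁ x₂ y m = L z i j k l m := by
  have h1 : m % 32 = m := by omega
  have h2 : m / 32 = 0 := by omega
  simp [F, h1, h2, kap]

omit h in
theorem F_0 : F z i j k l x₁ x₂ y 0 = 1 := by rw [F_lt (by norm_num), L_0]

omit h in
theorem F_16 : F z i j k l x₁ x₂ y 16 = z := by rw [F_lt (by norm_num), L_16]

omit h in
theorem F_288 : F z i j k l x₁ x₂ y 288 = y := by simp [F, L_0, kap]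

omit h in
theorem F_304 : F z i j k l x₁ x₂ y 304 = z * y := by simp [F, L_16, kap]

omit h in
theorem F_32 : F z i j k l x₁ x₂ y 32 = x₁ := by simp [F, L_0, kap]

omit h in
theorem F_96 : F z i j k l x₁ x₂ y 96 = x₂ := by simp [F, L_0, kap]

/-- every element of `C_G(z)` has a code -/
theorem exists_code [Finite G] (hy : y * y = 1) {c : G} (hc : c * z = z * c) :
    ∃ m < 576, F z i j k l x₁ x₂ y m = c := by
  let K₀ : Submonoid G :=
    { carrier := {g | ∃ m < 576, F z i j k l x₁ x₂ y m = g}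
      one_mem' := ⟨0, by norm_num, F_0⟩
      mul_mem' := by
        rintro _ _ ⟨m, hm, rfl⟩ ⟨n, hn, rfl⟩
        exact ⟨mm m n, mm_lt hm hn, F_mul h hy hm hn⟩ }
  let K : Subgroup G :=
    { K₀ with
      inv_mem' := by
        intro g hg
        have h1 : g⁻¹ = g ^ (orderOf g - 1) := by
          rw [inv_eq_iff_mul_eq_one, ← pow_succ', Nat.sub_add_cancel (orderOf_pos g),
            pow_orderOf_eq_one]
        rw [h1]
        exact K₀.pow_mem hg _ }
  have hle : Subgroup.centralizer ({z} : Set G) ≤ K := by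
    rw [h.cent, Subgroup.closure_le]
    rintro g hg
    simp only [Set.mem_insert_iff, Set.mem_singleton_iff] at hg
    rcases hg with rfl | rfl | rfl | rfl | rfl | rfl | rfl
    · exact ⟨1, by norm_num, by rw [F_lt (by norm_num), L_1]⟩
    · exact ⟨2, by norm_num, by rw [F_lt (by norm_num), L_2]⟩
    · exact ⟨4, by norm_num, by rw [F_lt (by norm_num), L_4]⟩
    · exact ⟨8, by norm_num, by rw [F_lt (by norm_num), L_8]⟩
    · exact ⟨32, by norm_num, F_32⟩
    · exact ⟨96, by norm_num, F_96⟩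
    · exact ⟨288, by norm_num, F_288⟩
  exact hle (Subgroup.mem_centralizer_singleton_iff.2 hc)

theorem F_comm {m : ℕ} : F z i j k l x₁ x₂ y m * z = z * F z i j k l x₁ x₂ y m := by
  have hQ : ∀ g ∈ Q, g * z = z * g := h.large.comm_z
  have hL : L z i j k l (m % 32) * z = z * L z i j k l (m % 32) := by
    have h1 := L_mul h.toPlus (x := m % 32) (y := 16) (by omega) (by norm_num)
    have h2 := L_mul h.toPlus (x := 16) (y := m % 32) (by norm_num) (by omega)
    have h3 : ∀ x < 32, qm x 16 = qm 16 x := by decide +kernel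
    rw [L_16] at h1 h2
    rw [← h1, ← h2, h3 _ (by omega)]
  have e1 : Commute x₁ z := by
    have := h.x₁_act.z
    change x₁ * z = z * x₁
    calc x₁ * z = (x₁ * z * x₁⁻¹) * x₁ := by group
      _ = z * x₁ := by rw [this]
  have e2 : Commute x₂ z := by
    have := h.x₂_act.z
    change x₂ * z = z * x₂
    calc x₂ * z = (x₂ * z * x₂⁻¹) * x₂ := by group
      _ = z * x₂ := by rw [this]
  have e3 : Commute y z := by
    have := h.y_act.z
    change y * z = z * y
    calc y * z = (y * z * y⁻¹) * y := by group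
      _ = z * y := by rw [this]
  have e4 : Commute (kap x₁ x₂ y (m / 32)) z := by
    unfold kap
    exact ((e1.pow_left _).mul_left (e2.pow_left _)).mul_left (e3.pow_left _)
  have e5 : Commute (L z i j k l (m % 32)) z := hL
  exact (e5.mul_left e4).eq

theorem F_inj [Finite G] (hy : y * y = 1) {m n : ℕ} (hm : m < 576) (hn : n < 576)
    (he : F z i j k l x₁ x₂ y m = F z i j k l x₁ x₂ y n) : m = n := by
  let f : Fin 576 → Subgroup.centralizer ({z} : Set G) := fun m =>
    ⟨F z i j k l x₁ x₂ y m, Subgroup.mem_centralizer_singleton_iff.2 (F_comm h)⟩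
  have hf : Function.Surjective f := by
    rintro ⟨c, hc⟩
    obtain ⟨m, hm, rfl⟩ := exists_code h hy (Subgroup.mem_centralizer_singleton_iff.1 hc)
    exact ⟨⟨m, hm⟩, rfl⟩
  have hb : Function.Bijective f := by
    rw [Nat.bijective_iff_surjective_and_card]
    exact ⟨hf, by rw [h.card_cent, Nat.card_eq_fintype_card, Fintype.card_fin]⟩
  have h1 : (⟨m, hm⟩ : Fin 576) = ⟨n, hn⟩ := hb.1 (Subtype.ext he)
  exact congrArg Fin.val h1

/-- commuting elements -/
theorem F_commute [Finite G] (hy : y * y = 1) {m n : ℕ} (hm : m < 576) (hn : n < 576)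
    (he : F z i j k l x₁ x₂ y m * F z i j k l x₁ x₂ y n = F z i j k l x₁ x₂ y n * F z i j k l x₁ x₂ y m) :
    mm m n = mm n m := by
  rw [← F_mul h hy hm hn, ← F_mul h hy hn hm] at he
  exact F_inj h hy (mm_lt hm hn) (mm_lt hn hm) he

end

end Cfsg.Agent.LargeExtra.W2.ThreeG.Model
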