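import Cfsg.Agent.LargeExtra.W2.ThreeG.Dec
import Cfsg.Agent.LargeExtra.W2.ThreeD

/-!
# Case `9c` of S1759 (`G₂(3)`): the hypotheses of the 3-local analysis hold (helper865)
-/

set_option autoImplicit false

namespace Cfsg.Agent.LargeExtra.W2.ThreeG.Main

open Cfsg Cfsg.Agent.LargeExtra.W2 Cfsg.Agent.LargeExtra.W2.ThreeG.Model
open Cfsg.Agent.SmallExtra438.Frame (L kap kap_of L_0 L_1 L_2 L_4 L_12 L_16)
open Cfsg.Agent.LargeExtra.W2.ThreeG.Dec
open Cfsg.Agent.LargeExtra.W2.ThreeA Cfsg.Agent.LargeExtra.W2.ThreeC Cfsg.Agent.LargeExtra.W2.ThreeD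

variable {G : Type*} [Group G] {Q : Subgroup G} {z i j k l x₁ x₂ y : G}

theorem F_p {a b : ℕ} (ha : a < 3) (hb : b < 3) : F z i j k l x₁ x₂ y (32 * a + 96 * b) = x₁ ^ a * x₂ ^ b := by
  have h1 : (32 * a + 96 * b) % 32 = 0 := by omega
  have h2 : (32 * a + 96 * b) / 32 = a + 3 * b + 9 * 0 := by omega
  rw [F, h1, h2, kap_of ha hb, L_0, one_mul, pow_zero, mul_one]

theorem exists_nat {x : G} (hx : x ^ 3 = 1) (a : ℤ) : ∃ n : ℕ, n < 3 ∧ x ^ a = x ^ n ∧ (x ^ a ≠ 1 → n ≠ 0) := by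
  rcases zpow_three_cases hx a with h1 | h1 | h1
  · exact ⟨0, by norm_num, by rw [h1, pow_zero], fun h2 => absurd h1 h2⟩
  · exact ⟨1, by norm_num, by rw [h1, pow_one], fun _ => by norm_num⟩
  · refine ⟨2, by norm_num, ?_, fun _ => by norm_num⟩
    rw [h1, inv_eq_iff_mul_eq_one, ← pow_succ', hx]

variable (h : Case9c Q z i j k l x₁ x₂ y) (hy : y * y = 1)

/-- the subgroup with a given list of codes -/
def sub [Finite G] (S : List ℕ) (h0 : 0 ∈ S) (hlt : ∀ a ∈ S, a < 576) (hmul : ∀ a ∈ S, ∀ b ∈ S, mm a b ∈ S)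
    (h : Case9c Q z i j k l x₁ x₂ y) (hy : y * y = 1) : Subgroup G :=
  let K₀ : Submonoid G :=
    { carrier := {g | ∃ m ∈ S, F z i j k l x₁ x₂ y m = g}
      one_mem' := ⟨0, h0, F_0⟩
      mul_mem' := by
        rintro _ _ ⟨m, hm, rfl⟩ ⟨n, hn, rfl⟩
        exact ⟨mm m n, hmul m hm n hn, F_mul h hy (hlt m hm) (hlt n hn)⟩ }
  { K₀ with
    inv_mem' := by
      intro g hg
      have h1 : g⁻¹ = g ^ (orderOf g - 1) := by
        rw [inv_eq_iff_mul_eq_one, ← pow_succ', Nat.sub_add_cancel (orderOf_pos g),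
          pow_orderOf_eq_one]
      rw [h1]
      exact K₀.pow_mem hg _ }

theorem mem_sub [Finite G] {S : List ℕ} {h0 : 0 ∈ S} {hlt : ∀ a ∈ S, a < 576}
    {hmul : ∀ a ∈ S, ∀ b ∈ S, mm a b ∈ S} {g : G} :
    g ∈ sub S h0 hlt hmul h hy ↔ ∃ m ∈ S, F z i j k l x₁ x₂ y m = g := Iff.rfl

/-- `⟨k, l⟩` -/
def Q2 [Finite G] : Subgroup G := sub S2 (by decide) S2_lt S2_mul h hy
/-- `⟨i, j⟩` -/
def Q1 [Finite G] : Subgroup G := sub S1 (by decide) S1_lt S1_mul h hy

section basic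
include h

theorem comm_z1 : z * x₁ = x₁ * z := by
  have := h.x₁_act.z
  calc z * x₁ = (x₁ * z * x₁⁻¹) * x₁ := by rw [this]
    _ = x₁ * z := by group

theorem comm_z2 : z * x₂ = x₂ * z := by
  have := h.x₂_act.z
  calc z * x₂ = (x₂ * z * x₂⁻¹) * x₂ := by rw [this]
    _ = x₂ * z := by group

theorem comm_zy : z * y = y * z := by
  have := h.y_act.z
  calc z * y = (y * z * y⁻¹) * y := by rw [this]
    _ = y * z := by group

theorem x1_ne : x₁ ≠ 1 := by
  intro h1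
  have h2 := h.x₁_act.i
  have h3 := h.ji
  rw [h1] at h2
  simp only [one_mul, inv_one, mul_one] at h2
  rw [← h2] at h3
  exact h.large.z_ne (by simpa using h3)

theorem x2_ne : x₂ ≠ 1 := by
  intro h1
  have h2 := h.x₂_act.k
  have h3 := h.lk
  rw [h1] at h2
  simp only [one_mul, inv_one, mul_one] at h2
  rw [← h2] at h3
  exact h.large.z_ne (by simpa using h3)

end basic

theorem isPGroup_sub [Finite G] {S : List ℕ} {h0 : 0 ∈ S} {hlt : ∀ a ∈ S, a < 576}
    {hmul : ∀ a ∈ S, ∀ b ∈ S, mm a b ∈ S} (h4 : ∀ a ∈ S, mm (mm a a) (mm a a) = 0) :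
    IsPGroup 2 (sub S h0 hlt hmul h hy) := by
  rintro ⟨g, hg⟩
  obtain ⟨m, hm, rfl⟩ := hg
  refine ⟨2, ?_⟩
  apply Subtype.ext
  show (F z i j k l x₁ x₂ y m) ^ 2 ^ 2 = 1
  have h1 : (F z i j k l x₁ x₂ y m) ^ 2 ^ 2 = F z i j k l x₁ x₂ y (mm (mm m m) (mm m m)) := by
    rw [F_mul h hy (hlt _ (hmul m hm m hm)) (hlt _ (hmul m hm m hm)), F_mul h hy (hlt m hm) (hlt m hm)]
    show (F z i j k l x₁ x₂ y m) ^ 4 = _
    simp only [pow_succ, pow_zero, one_mul, mul_assoc]
  rw [h1, h4 m hm, F_0]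

theorem cube_eq {x : G} (hx : x ^ 9 = 1) : x * (x * x) * (x * (x * x)) * (x * (x * x)) = 1 := by
  rw [← hx]
  simp only [pow_succ, pow_zero, one_mul, mul_assoc]

theorem half2 [Finite G] : Half z y x₁ x₂ (Q2 h hy) where
  z1 := h.large.z_ne
  zz := h.large.z_sq
  ττ := hy
  zτ := comm_zy h
  x3 := h.x₁3
  x1 := x1_ne h
  y3 := h.x₂3
  xy := h.xx
  zx := comm_z1 h
  zy := comm_z2 h
  τx := h.y1
  τy := h.y2
  two := isPGroup_sub h hy S2_four
  z_mem := ⟨16, by decide, F_16⟩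
  uniq := by
    rintro _ ⟨m, hm, rfl⟩ hq
    rw [← F_mul h hy (S2_lt m hm) (S2_lt m hm)] at hq
    have h1 : mm m m = 0 := F_inj h hy (mm_lt (S2_lt m hm) (S2_lt m hm)) (by norm_num) (by rw [hq, F_0])
    rcases S2_uniq m hm h1 with rfl | rfl
    · left; exact F_0
    · right; exact F_16
  Qx := by
    rintro _ ⟨m, hm, rfl⟩
    have h1 := congrArg (F z i j k l x₁ x₂ y) (S2_x1 m hm)
    rw [F_mul h hy (S2_lt m hm) (by norm_num), F_mul h hy (by norm_num) (S2_lt m hm), F_32] at h1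
    exact h1
  Qy := by
    rintro _ ⟨m, hm, rfl⟩
    obtain ⟨b, hb, h0⟩ := S2_x2 m hm
    have h1 := congrArg (F z i j k l x₁ x₂ y) h0
    rw [F_mul h hy (by norm_num) (S2_lt m hm), F_mul h hy (S2_lt b hb) (by norm_num), F_96] at h1
    refine ⟨b, hb, ?_⟩
    rw [h1]; group
  fpf := by
    rintro _ ⟨m, hm, rfl⟩ hc
    have h1 : mm 96 m = mm m 96 := by
      apply F_commute h hy (by norm_num) (S2_lt m hm)
      rw [F_96]; exact hc
    rcases S2_fpf m hm h1 with rfl | rfl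
    · left; exact F_0
    · right; exact F_16
  ne := by
    refine ⟨F z i j k l x₁ x₂ y 4, ⟨4, by decide, rfl⟩, ?_⟩
    intro hc
    apply S2_ne
    apply F_commute h hy (by norm_num) (by norm_num)
    rw [F_96]; exact hc
  cent := by
    intro g hgz hgx
    obtain ⟨m, hm, rfl⟩ := exists_code h hy hgz
    have h1 : mm m 32 = mm 32 m := by
      apply F_commute h hy hm (by norm_num)
      rw [F_32]; exact hgx
    obtain ⟨a, ha, b, hb, q, hq, rfl⟩ := cent_x1 m hm h1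
    refine ⟨a, b, F z i j k l x₁ x₂ y q, ⟨q, hq, rfl⟩, ?_⟩
    rw [F_mul h hy (by omega) (S2_lt q hq), F_p ha hb, zpow_natCast, zpow_natCast, mul_assoc]
  sw := by
    refine ⟨F z i j k l x₁ x₂ y 12, ⟨12, by decide, rfl⟩, ?_⟩
    have h1 := congrArg (F z i j k l x₁ x₂ y) S2_sw
    rw [F_mul h hy (by norm_num) (by norm_num), F_mul h hy (mm_lt (by norm_num) (by norm_num)) (by norm_num),
      F_mul h hy (by norm_num) (by norm_num), F_288, F_16] at h1
    rw [h1]; group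
  sq := by
    refine ⟨k, ⟨4, by decide, ?_⟩, h.kk⟩
    rw [F_lt (by norm_num), L_4]

theorem half1 [Finite G] : Half z y x₂ x₁ (Q1 h hy) where
  z1 := h.large.z_ne
  zz := h.large.z_sq
  ττ := hy
  zτ := comm_zy h
  x3 := h.x₂3
  x1 := x2_ne h
  y3 := h.x₁3
  xy := h.xx.symm
  zx := comm_z2 h
  zy := comm_z1 h
  τx := h.y2
  τy := h.y1
  two := isPGroup_sub h hy S1_four
  z_mem := ⟨16, by decide, F_16⟩
  uniq := by
    rintro _ ⟨m, hm, rfl⟩ hq
    rw [← F_mul h hy (S1_lt m hm) (S1_lt m hm)] at hq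
    have h1 : mm m m = 0 := F_inj h hy (mm_lt (S1_lt m hm) (S1_lt m hm)) (by norm_num) (by rw [hq, F_0])
    rcases S1_uniq m hm h1 with rfl | rfl
    · left; exact F_0
    · right; exact F_16
  Qx := by
    rintro _ ⟨m, hm, rfl⟩
    have h1 := congrArg (F z i j k l x₁ x₂ y) (S1_x2 m hm)
    rw [F_mul h hy (S1_lt m hm) (by norm_num), F_mul h hy (by norm_num) (S1_lt m hm), F_96] at h1
    exact h1
  Qy := by
    rintro _ ⟨m, hm, rfl⟩
    obtain ⟨b, hb, h0⟩ := S1_x1 m hm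
    have h1 := congrArg (F z i j k l x₁ x₂ y) h0
    rw [F_mul h hy (by norm_num) (S1_lt m hm), F_mul h hy (S1_lt b hb) (by norm_num), F_32] at h1
    refine ⟨b, hb, ?_⟩
    rw [h1]; group
  fpf := by
    rintro _ ⟨m, hm, rfl⟩ hc
    have h1 : mm 32 m = mm m 32 := by
      apply F_commute h hy (by norm_num) (S1_lt m hm)
      rw [F_32]; exact hc
    rcases S1_fpf m hm h1 with rfl | rfl
    · left; exact F_0
    · right; exact F_16
  ne := by
    refine ⟨F z i j k l x₁ x₂ y 1, ⟨1, by decide, rfl⟩, ?_⟩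
    intro hc
    apply S1_ne
    apply F_commute h hy (by norm_num) (by norm_num)
    rw [F_32]; exact hc
  cent := by
    intro g hgz hgx
    obtain ⟨m, hm, rfl⟩ := exists_code h hy hgz
    have h1 : mm m 96 = mm 96 m := by
      apply F_commute h hy hm (by norm_num)
      rw [F_96]; exact hgx
    obtain ⟨a, ha, b, hb, q, hq, rfl⟩ := cent_x2 m hm h1
    refine ⟨b, a, F z i j k l x₁ x₂ y q, ⟨q, hq, rfl⟩, ?_⟩
    rw [F_mul h hy (by omega) (S1_lt q hq), F_p ha hb, zpow_natCast, zpow_natCast, ← mul_assoc]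
    congr 1
    exact ((show Commute x₁ x₂ from h.xx).pow_pow a b).eq
  sw := by
    refine ⟨F z i j k l x₁ x₂ y 3, ⟨3, by decide, rfl⟩, ?_⟩
    have h1 := congrArg (F z i j k l x₁ x₂ y) S1_sw
    rw [F_mul h hy (by norm_num) (by norm_num), F_mul h hy (mm_lt (by norm_num) (by norm_num)) (by norm_num),
      F_mul h hy (by norm_num) (by norm_num), F_288, F_16] at h1
    rw [h1]; group
  sq := by
    refine ⟨i, ⟨1, by decide, ?_⟩, h.ii⟩
    rw [F_lt (by norm_num), L_1]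

theorem two [Finite G] {g : G} (hg1 : g * z * g⁻¹ = y) (hg2 : g * y * g⁻¹ = z * y) :
    Two z y x₁ x₂ (Q1 h hy) (Q2 h hy) where
  h₁ := half2 h hy
  h₂ := half1 h hy
  nine := by
    intro A hA hodd
    have h1 : A ≤ Subgroup.centralizer {z} := fun a ha => Subgroup.mem_centralizer_singleton_iff.2 (hA a ha)
    have h2 := Subgroup.card_dvd_of_le h1
    rw [h.card_cent] at h2
    have h3 : Nat.Coprime (Nat.card A) 64 := by
      rw [show 64 = 2 ^ 6 by norm_num]
      exact Nat.Coprime.pow_right 6 (Nat.coprime_two_right.2 hodd)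
    rw [show 576 = 64 * 9 by norm_num] at h2
    exact h3.dvd_of_dvd_mul_left h2
  fuse := ⟨g, hg1, hg2⟩
  syl := by
    intro g' hz hodd
    obtain ⟨m, hm, rfl⟩ := exists_code h hy hz
    have h9 : (F z i j k l x₁ x₂ y m) ^ 9 = 1 := by
      rw [← orderOf_dvd_iff_pow_eq_one]
      have h1 : Subgroup.zpowers (F z i j k l x₁ x₂ y m) ≤ Subgroup.centralizer {z} := by
        rw [Subgroup.zpowers_le]; exact Subgroup.mem_centralizer_singleton_iff.2 hz
      have h2 := Subgroup.card_dvd_of_le h1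
      rw [h.card_cent, Nat.card_zpowers] at h2
      have h3 : Nat.Coprime (orderOf (F z i j k l x₁ x₂ y m)) 64 := by
        rw [show 64 = 2 ^ 6 by norm_num]
        exact Nat.Coprime.pow_right 6 (Nat.coprime_two_right.2 hodd)
      rw [show 576 = 64 * 9 by norm_num] at h2
      exact h3.dvd_of_dvd_mul_left h2
    have hmm := mm_lt hm hm
    have h3 := mm_lt hm hmm
    have h33 := mm_lt h3 h3
    have h0 : mm (mm m (mm m m)) (mm (mm m (mm m m)) (mm m (mm m m))) = 0 := by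
      apply F_inj h hy (mm_lt h3 h33) (by norm_num)
      rw [F_mul h hy h3 h33, F_mul h hy h3 h3, F_mul h hy hm hmm, F_mul h hy hm hm, F_0]
      rw [← cube_eq h9]
      simp only [mul_assoc]
    obtain ⟨c, hc, a, ha, b, hb, he⟩ := syl m hm h0
    refine ⟨F z i j k l x₁ x₂ y c, F_comm h, a, b, ?_⟩
    have h1 := congrArg (F z i j k l x₁ x₂ y) he
    rw [F_mul h hy (by omega) hm, F_mul h hy (by omega) (by omega), F_p ha hb] at h1
    rw [zpow_natCast, zpow_natCast, h1]; group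
  vw := by
    intro a b ha hb g' hz hcom
    obtain ⟨na, hna, ea, ea'⟩ := exists_nat h.x₁3 a
    obtain ⟨nb, hnb, eb, eb'⟩ := exists_nat h.x₂3 b
    obtain ⟨m, hm, rfl⟩ := exists_code h hy hz
    have h1 : mm m (32 * na + 96 * nb) = mm (32 * na + 96 * nb) m := by
      apply F_commute h hy hm (by omega)
      rw [F_p hna hnb, ← ea, ← eb]; exact hcom
    obtain ⟨c, hc, d, hd, rfl | rfl⟩ := cent_v hna hnb (ea' ha) (eb' hb) hm h1
    · refine ⟨c, d, Or.inl ?_⟩
      rw [F_p hc hd, zpow_natCast, zpow_natCast]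
    · refine ⟨c, d, Or.inr ?_⟩
      rw [F_mul h hy (by omega) (by norm_num), F_p hc hd, zpow_natCast, zpow_natCast, F_16]
  nor := by
    rintro n hz ⟨a, b, h1⟩ ⟨a', b', h2⟩
    obtain ⟨m, hm, rfl⟩ := exists_code h hy hz
    obtain ⟨na, hna, ea, -⟩ := exists_nat h.x₁3 a
    obtain ⟨nb, hnb, eb, -⟩ := exists_nat h.x₂3 b
    obtain ⟨na', hna', ea', -⟩ := exists_nat h.x₁3 a'
    obtain ⟨nb', hnb', eb', -⟩ := exists_nat h.x₂3 b'
    have e1 : ∃ a < 3, ∃ b < 3, mm m 32 = mm (32 * a + 96 * b) m := by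
      refine ⟨na, hna, nb, hnb, ?_⟩
      apply F_inj h hy (mm_lt hm (by norm_num)) (mm_lt (by omega) hm)
      rw [F_mul h hy hm (by norm_num), F_mul h hy (by omega) hm, F_p hna hnb, F_32, ← ea, ← eb, ← h1]
      group
    have e2 : ∃ a < 3, ∃ b < 3, mm m 96 = mm (32 * a + 96 * b) m := by
      refine ⟨na', hna', nb', hnb', ?_⟩
      apply F_inj h hy (mm_lt hm (by norm_num)) (mm_lt (by omega) hm)
      rw [F_mul h hy hm (by norm_num), F_mul h hy (by omega) hm, F_p hna' hnb', F_96, ← ea', ← eb', ← h2]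
      group
    obtain ⟨c, hc, d, hd, hh⟩ := norm_p m hm e1 e2
    refine ⟨c, d, ?_⟩
    rcases hh with rfl | rfl | rfl | rfl
    · left; rw [F_p hc hd, zpow_natCast, zpow_natCast]
    · right; left
      rw [F_mul h hy (by omega) (by norm_num), F_p hc hd, zpow_natCast, zpow_natCast, F_16]
    · right; right; left
      rw [F_mul h hy (by omega) (by norm_num), F_p hc hd, zpow_natCast, zpow_natCast, F_288]
    · right; right; right
      rw [F_mul h hy (by omega) (mm_lt (by norm_num) (by norm_num)), F_p hc hd, zpow_natCast, zpow_natCast,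
        F_mul h hy (by norm_num) (by norm_num), F_16, F_288]
  vcent := by
    intro g' hz hy' hodd
    obtain ⟨m, hm, rfl⟩ := exists_code h hy hz
    have h1 : mm m 288 = mm 288 m := by
      apply F_commute h hy hm (by norm_num)
      rw [F_288]; exact hy'
    have h2 := congrArg (F z i j k l x₁ x₂ y) (cent_y m hm h1)
    rw [F_mul h hy hm hm, F_0] at h2
    have h3 : orderOf (F z i j k l x₁ x₂ y m) ∣ 2 := orderOf_dvd_of_pow_eq_one (by rw [pow_two, h2])
    rcases (Nat.dvd_prime Nat.prime_two).1 h3 with h4 | h4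
    · exact orderOf_eq_one_iff.1 h4
    · rw [h4] at hodd; exact absurd hodd (by decide)

end Cfsg.Agent.LargeExtra.W2.ThreeG.Main
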